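import Groth.Agent.Azu26.Basic
import Mathlib

/-!
# Algebra structures on a free module by structure constants
-/

set_option autoImplicit false
set_option linter.style.haveILetI false

universe u

open Finset MulOpposite TensorProduct

namespace Groth.Agent.AzuStr2

variable {N : ℕ}

/-- The bilinear map with structure constants `c`. -/
noncomputable def mulMap {C : Type u} [CommRing C] (c : Fin N → Fin N → Fin N → C) :
    (Fin N → C) →ₗ[C] (Fin N → C) →ₗ[C] (Fin N → C) :=
  LinearMap.mk₂ C (fun x y l => ∑ i, ∑ j, x i * y j * c i j l)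
    (fun x x' y => by ext l; simp [add_mul, sum_add_distrib])
    (fun r x y => by ext l; simp [mul_sum, mul_assoc])
    (fun x y y' => by ext l; simp [mul_add, add_mul, sum_add_distrib])
    (fun r x y => by ext l; simp [mul_sum]; exact sum_congr rfl fun i _ => sum_congr rfl fun j _ => by ring)

theorem mulMap_single {C : Type u} [CommRing C] (c : Fin N → Fin N → Fin N → C) (i j : Fin N) :
    mulMap c (Pi.single i 1) (Pi.single j 1) = c i j := by
  ext l
  simp [mulMap, Pi.single_apply]

theorem mulMap_apply {C : Type u} [CommRing C] (c : Fin N → Fin N → Fin N → C) (x y : Fin N → C) (l : Fin N) :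
    mulMap c x y l = ∑ i, ∑ j, x i * y j * c i j l := rfl

theorem map_mulMap {C D : Type u} [CommRing C] [CommRing D] (f : C →+* D) (c : Fin N → Fin N → Fin N → C)
    (x y : Fin N → C) : (fun l => f (mulMap c x y l)) =
      mulMap (fun i j l => f (c i j l)) (fun i => f (x i)) (fun i => f (y i)) := by
  ext l
  simp [mulMap_apply, map_sum]

theorem comp_single {C D : Type u} [CommRing C] [CommRing D] (f : C →+* D) (i : Fin N) :
    (fun l => f ((Pi.single i 1 : Fin N → C) l)) = Pi.single i 1 := by
  ext l
  simp [Pi.single_apply, apply_ite f]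

/-- Associativity and unit, on the basis. -/
structure IsStr {C : Type u} [CommRing C] (c : Fin N → Fin N → Fin N → C) (u : Fin N → C) : Prop where
  assoc : ∀ i j k, mulMap c (c i j) (Pi.single k 1) = mulMap c (Pi.single i 1) (c j k)
  one_mul : ∀ i, mulMap c u (Pi.single i 1) = Pi.single i 1
  mul_one : ∀ i, mulMap c (Pi.single i 1) u = Pi.single i 1

section Facts

variable {C : Type u} [CommRing C] {c : Fin N → Fin N → Fin N → C} {u : Fin N → C}

theorem IsStr.assoc' (h : IsStr c u) (x y z : Fin N → C) :
    mulMap c (mulMap c x y) z = mulMap c x (mulMap c y z) := by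
  let b := Pi.basisFun C (Fin N)
  have k3 : ∀ (i j : Fin N) (z : Fin N → C), mulMap c (c i j) z = mulMap c (b i) (mulMap c (b j) z) := fun i j => by
    have : mulMap c (c i j) = mulMap c (b i) ∘ₗ mulMap c (b j) := b.ext fun k => by
      simp [b, mulMap_single, h.assoc]
    exact LinearMap.congr_fun this
  have k2 : ∀ (i : Fin N) (y z : Fin N → C), mulMap c (mulMap c (b i) y) z = mulMap c (b i) (mulMap c y z) :=
    fun i y z => by
      have : (mulMap c).flip z ∘ₗ mulMap c (b i) = mulMap c (b i) ∘ₗ (mulMap c).flip z := b.ext fun j => by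
        simpa [b, mulMap_single] using k3 i j z
      exact LinearMap.congr_fun this y
  have : (mulMap c).flip z ∘ₗ (mulMap c).flip y = (mulMap c).flip (mulMap c y z) := b.ext fun i => k2 i y z
  exact LinearMap.congr_fun this x

theorem IsStr.one_mul' (h : IsStr c u) (x : Fin N → C) : mulMap c u x = x := by
  have : mulMap c u = LinearMap.id := (Pi.basisFun C (Fin N)).ext fun i => by simpa using h.one_mul i
  exact LinearMap.congr_fun this x

theorem IsStr.mul_one' (h : IsStr c u) (x : Fin N → C) : mulMap c x u = x := by
  have : (mulMap c).flip u = LinearMap.id := (Pi.basisFun C (Fin N)).ext fun i => by simpa using h.mul_one i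
  exact LinearMap.congr_fun this x

theorem IsStr.mk' (ha : ∀ x y z : Fin N → C, mulMap c (mulMap c x y) z = mulMap c x (mulMap c y z))
    (h1 : ∀ x, mulMap c u x = x) (h2 : ∀ x, mulMap c x u = x) : IsStr c u :=
  ⟨fun i j k => by rw [← mulMap_single c i j, ← mulMap_single c j k]; exact ha _ _ _, fun i => h1 _, fun i => h2 _⟩

end Facts

/-- The algebra with given structure constants. -/
def Alg {C : Type u} [CommRing C] {c : Fin N → Fin N → Fin N → C} {u : Fin N → C} (_ : IsStr c u) : Type u :=
  Fin N → C

namespace Alg

variable {C : Type u} [CommRing C] {c : Fin N → Fin N → Fin N → C} {u : Fin N → C} (h : IsStr c u)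

noncomputable instance : AddCommGroup (Alg h) := inferInstanceAs (AddCommGroup (Fin N → C))

noncomputable instance instModule : Module C (Alg h) := inferInstanceAs (Module C (Fin N → C))

noncomputable instance instRing : Ring (Alg h) :=
  { (inferInstance : AddCommGroup (Alg h)) with
    mul := fun x y => (mulMap c x y : Fin N → C)
    one := (u : Fin N → C)
    mul_assoc := h.assoc'
    one_mul := h.one_mul'
    mul_one := h.mul_one'
    zero_mul := fun x => LinearMap.congr_fun (map_zero (mulMap c)) x
    mul_zero := fun x => map_zero (mulMap c x)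
    left_distrib := fun x y z => map_add (mulMap c x) y z
    right_distrib := fun x y z => LinearMap.congr_fun (map_add (mulMap c) x y) z }

noncomputable instance : Algebra C (Alg h) :=
  Algebra.ofModule (fun r x y => LinearMap.congr_fun (map_smul (mulMap c) r x) y)
    (fun r x y => map_smul (mulMap c x) r y)

/-- The standard basis. -/
noncomputable def basis : Module.Basis (Fin N) C (Alg h) := Pi.basisFun C (Fin N)

theorem repr_mul (i j l : Fin N) : (basis h).repr (basis h i * basis h j) l = c i j l := by
  show (Pi.basisFun C (Fin N)).repr (mulMap c (Pi.basisFun C (Fin N) i) (Pi.basisFun C (Fin N) j)) l = _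
  simp [Pi.basisFun_apply, Pi.basisFun_repr, mulMap_single]

theorem repr_one (l : Fin N) : (basis h).repr 1 l = u l := Pi.basisFun_repr C (Fin N) (u : Fin N → C) l

end Alg

/-- The matrix of `x ⊗ y ↦ (z ↦ x z y)` in terms of structure constants. -/
noncomputable def lrMatrix {C : Type u} [CommRing C] (c : Fin N → Fin N → Fin N → C) :
    Matrix (Fin N × Fin N) (Fin N × Fin N) C :=
  Matrix.of fun li ab => ∑ m, c ab.1 li.2 m * c m ab.2 li.1

theorem map_lrMatrix {C D : Type u} [CommRing C] [CommRing D] (f : C →+* D) (c : Fin N → Fin N → Fin N → C) :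
    f (lrMatrix c).det = (lrMatrix fun i j l => f (c i j l)).det := by
  rw [RingHom.map_det]
  congr 1
  ext li ab
  simp [lrMatrix, map_sum]

section Basis

variable {C A : Type u} [CommRing C] [Ring A] [Algebra C A] (b : Module.Basis (Fin N) C A)

/-- Structure constants of a based algebra. -/
noncomputable def consts : Fin N → Fin N → Fin N → C := fun i j l => b.repr (b i * b j) l

theorem mulMap_consts (x y : Fin N → C) :
    mulMap (consts b) x y = b.equivFun ((∑ i, x i • b i) * ∑ j, y j • b j) := by
  ext l
  simp [mulMap_apply, consts, Finset.sum_mul, Finset.mul_sum, smul_smul, Finsupp.finsetSum_apply]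
  rw [Finset.sum_comm]
  refine sum_congr rfl fun i _ => sum_congr rfl fun j _ => by ring

theorem isStr_consts : IsStr (consts b) (b.equivFun 1) := by
  have key : ∀ x : A, ∑ i, b.equivFun x i • b i = x := b.sum_equivFun
  refine IsStr.mk' (fun x y z => ?_) (fun x => ?_) (fun x => ?_)
  · simp only [mulMap_consts, key, mul_assoc]
  · rw [mulMap_consts, key, one_mul]
    ext l
    simp [Finsupp.single_apply]
  · rw [mulMap_consts, key, mul_one]
    ext l
    simp [Finsupp.single_apply]

theorem toMatrix_mulLeftRight :
    LinearMap.toMatrix (b.tensorProduct (b.map (opLinearEquiv C))) b.end (AlgHom.mulLeftRight C A).toLinearMap =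
      lrMatrix (consts b) := by
  ext ⟨l, i⟩ ⟨a, e⟩
  rw [LinearMap.toMatrix_apply, Module.Basis.tensorProduct_apply]
  simp only [Module.Basis.map_apply, AlgHom.toLinearMap_apply]
  rw [Module.Basis.end_repr_apply]
  simp only [lrMatrix, Matrix.of_apply, consts]
  rw [show ∀ M : Matrix (Fin N) (Fin N) C, (Matrix.stdBasis C (Fin N) (Fin N)).repr M (l, i) = M l i from fun M => rfl,
    LinearMap.toMatrix_apply, AlgHom.mulLeftRight_apply]
  show b.repr (b a * b i * b e) l = _
  rw [show b a * b i * b e = (∑ m, b.repr (b a * b i) m • b m) * b e by rw [b.sum_repr]]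
  simp only [Finset.sum_mul, smul_mul_assoc, map_sum, map_smul, Finsupp.finsetSum_apply, Finsupp.smul_apply, smul_eq_mul]

theorem isUnit_det_of_isAzumaya [IsAzumaya C A] : IsUnit (lrMatrix (consts b)).det := by
  let e : A ⊗[C] Aᵐᵒᵖ ≃ₗ[C] Module.End C A :=
    LinearEquiv.ofBijective (AlgHom.mulLeftRight C A).toLinearMap IsAzumaya.bij
  rw [← toMatrix_mulLeftRight]
  exact LinearEquiv.isUnit_det e _ _

theorem isAzumaya_of_isUnit_det [Nontrivial C] (hN : 0 < N) (hd : IsUnit (lrMatrix (consts b)).det) :
    IsAzumaya C A := by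
  haveI : Module.Free C A := Module.Free.of_basis b
  haveI : Module.Finite C A := Module.Finite.of_basis b
  haveI : Nonempty (Fin N) := ⟨⟨0, hN⟩⟩
  haveI : FaithfulSMul C A := ⟨fun {r s} hrs => by
    have := congrArg (fun x => b.repr x ⟨0, hN⟩) (hrs (b ⟨0, hN⟩))
    simpa using this⟩
  rw [← toMatrix_mulLeftRight] at hd
  exact { bij := (LinearEquiv.ofIsUnitDet hd).bijective }

theorem exists_separability [IsAzumaya C A] : ∃ e : Fin N → Fin N → C,
    (∑ i, ∑ j, e i j • (b i * b j)) = 1 ∧
    ∀ (a : A) (k l : Fin N), ∑ i, e i l * b.repr (a * b i) k = ∑ j, e k j * b.repr (b j * a) l := by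
  let Φ : A ⊗[C] A ≃ₗ[C] Module.End C A :=
    (TensorProduct.congr (LinearEquiv.refl C A) (opLinearEquiv C)) ≪≫ₗ
      LinearEquiv.ofBijective (AlgHom.mulLeftRight C A).toLinearMap IsAzumaya.bij
  have hΦ : ∀ x y z, Φ (x ⊗ₜ y) z = x * z * y := fun x y z => AlgHom.mulLeftRight_apply C A x (op y) z
  obtain ⟨φ, hφ⟩ := Azu26.exists_functional_one (R := C) (A := A)
  let E : A ⊗[C] A := Φ.symm (φ.smulRight 1)
  have hE : ∀ z, Φ E z = φ z • (1 : A) := fun z => by simp [E]
  let bb := b.tensorProduct b
  let e : Fin N → Fin N → C := fun i j => bb.repr E (i, j)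
  have hsum : E = ∑ i, ∑ j, e i j • (b i ⊗ₜ[C] b j) := by
    conv_lhs => rw [← bb.sum_repr E, Fintype.sum_prod_type]
    simp [e, bb]
  have hmul : ∀ (x : A ⊗[C] A), LinearMap.mul' C A x = Φ x 1 := fun x => by
    induction x using TensorProduct.induction_on with
    | zero => simp
    | tmul x y => rw [hΦ, mul_one, LinearMap.mul'_apply]
    | add x y hx hy => rw [map_add, map_add, LinearMap.add_apply, hx, hy]
  refine ⟨e, ?_, fun a k l => ?_⟩
  · have h1 := hmul E
    rw [hE, hφ, one_smul] at h1
    rw [← h1, hsum]
    simp [map_sum]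
  · have hL : ∀ x z, Φ ((LinearMap.mulLeft C a).rTensor A x) z = a * Φ x z := fun x z => by
      induction x using TensorProduct.induction_on with
      | zero => simp
      | tmul x y => simp [hΦ, mul_assoc]
      | add x y hx hy => simp only [map_add, LinearMap.add_apply, hx, hy, mul_add]
    have hR : ∀ x z, Φ ((LinearMap.mulRight C a).lTensor A x) z = Φ x z * a := fun x z => by
      induction x using TensorProduct.induction_on with
      | zero => simp
      | tmul x y => simp [hΦ, mul_assoc]
      | add x y hx hy => simp only [map_add, LinearMap.add_apply, hx, hy, add_mul]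
    have heq : (LinearMap.mulLeft C a).rTensor A E = (LinearMap.mulRight C a).lTensor A E :=
      Φ.injective (LinearMap.ext fun z => by rw [hL, hR, hE]; simp)
    have h2 := congrArg (fun x => bb.repr x (k, l)) heq
    simp only [hsum, map_sum, map_smul, LinearMap.rTensor_tmul, LinearMap.lTensor_tmul,
      Finsupp.finsetSum_apply, Finsupp.smul_apply, smul_eq_mul, bb, Module.Basis.tensorProduct_repr_tmul_apply,
      LinearMap.mulLeft_apply, LinearMap.mulRight_apply, Module.Basis.repr_self, Finsupp.single_apply] at h2
    simpa [mul_comm, mul_left_comm] using h2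

end Basis

end Groth.Agent.AzuStr2
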