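import Groth.Agent.AzuStr2.Basic

/-!
# Deforming separable algebra structures along square-zero ideals
-/

set_option autoImplicit false
set_option linter.style.haveILetI false

universe u

open Finset

namespace Groth.Agent.AzuStr2

variable {N : ℕ} {B : Type u} [CommRing B]

/-- A map into the `I`-vectors annihilates every `I`-vector. -/
theorem eq_zero_of_mem_of_mem (I : Ideal B) (hI : I ^ 2 = ⊥) (h : (Fin N → B) →ₗ[B] (Fin N → B))
    (hh : ∀ x l, h x l ∈ I) (y : Fin N → B) (hy : ∀ l, y l ∈ I) : h y = 0 := by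
  rw [← (Pi.basisFun B (Fin N)).sum_repr y, map_sum]
  refine sum_eq_zero fun i _ => ?_
  ext l
  rw [map_smul, Pi.smul_apply, smul_eq_mul, Pi.zero_apply]
  have := Ideal.mul_mem_mul (show (Pi.basisFun B (Fin N)).repr y i ∈ I by simpa using hy i)
    (hh (Pi.basisFun B (Fin N) i) l)
  rwa [← sq, hI, Ideal.mem_bot] at this

theorem mulMap_mem (I : Ideal B) (c : Fin N → Fin N → Fin N → B) (x y : Fin N → B)
    (h : (∀ l, x l ∈ I) ∨ (∀ l, y l ∈ I)) (l : Fin N) : mulMap c x y l ∈ I := by
  rw [mulMap_apply]
  refine sum_mem fun i _ => sum_mem fun j _ => I.mul_mem_right _ ?_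
  rcases h with h | h
  · exact I.mul_mem_right _ (h i)
  · exact I.mul_mem_left _ (h j)

theorem exists_deform [Nontrivial B] (I : Ideal B) (hI : I ^ 2 = ⊥) (hN : 0 < N)
    (c : Fin N → Fin N → Fin N → B) (u₀ : Fin N → B)
    (h0 : IsStr (fun i j l => Ideal.Quotient.mk I (c i j l)) (fun l => Ideal.Quotient.mk I (u₀ l)))
    (hd : IsUnit (lrMatrix fun i j l => Ideal.Quotient.mk I (c i j l)).det) :
    ∃ (c' : Fin N → Fin N → Fin N → B) (u : Fin N → B), IsStr c' u ∧ IsUnit (lrMatrix c').det ∧
      (∀ i j l, c' i j l - c i j l ∈ I) ∧ ∀ l, u l - u₀ l ∈ I := by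
  classical
  have hInil : ∀ x ∈ I, ∀ y ∈ I, x * y = 0 := fun x hx y hy => by
    have := Ideal.mul_mem_mul hx hy
    rwa [← sq, hI, Ideal.mem_bot] at this
  haveI : Nontrivial (B ⧸ I) := Ideal.Quotient.nontrivial_iff.2 fun h => by
    rw [h, Ideal.top_pow] at hI
    exact top_ne_bot hI
  let q := Ideal.Quotient.mk I
  let c0 : Fin N → Fin N → Fin N → B ⧸ I := fun i j l => q (c i j l)
  let red : (Fin N → B) → (Fin N → B ⧸ I) := fun x l => q (x l)
  have hred : ∀ x y, red (mulMap c x y) = mulMap c0 (red x) (red y) := fun x y => map_mulMap q c x y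
  have hmem : ∀ x y : Fin N → B, red x = red y → ∀ l, x l - y l ∈ I := fun x y h l => Ideal.Quotient.eq.1 (congrFun h l)
  -- separability
  let b := Alg.basis h0
  have hcb : consts b = c0 := funext fun i => funext fun j => funext fun l => Alg.repr_mul h0 i j l
  haveI : IsAzumaya (B ⧸ I) (Alg h0) := isAzumaya_of_isUnit_det b hN (by rw [hcb]; exact hd)
  obtain ⟨e0, he1, he2⟩ := exists_separability b
  choose e he using fun i j => Ideal.Quotient.mk_surjective (e0 i j)
  let E : Fin N → (Fin N → B) := fun i => Pi.single i 1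
  have hm : ∀ (x y : Fin N → B) l, q (mulMap c x y l) = mulMap c0 (red x) (red y) l := fun x y l => congrFun (hred x y) l
  have hone : ∀ l, (∑ i, ∑ j, e i j • mulMap c (E i) (E j)) l - u₀ l ∈ I := by
    refine hmem _ _ (funext fun l => ?_)
    have h1 := congrArg (fun x => (b.repr x) l) he1
    simp only [map_sum, map_smul, Finsupp.finsetSum_apply, Finsupp.smul_apply, b, Alg.repr_mul, Alg.repr_one,
      smul_eq_mul] at h1
    simp only [red, Finset.sum_apply, Pi.smul_apply, smul_eq_mul, map_sum, map_mul, E, mulMap_single]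
    show ∑ i, ∑ j, q (e i j) * q (c i j l) = q (u₀ l)
    simp only [q, he]
    exact h1
  have hcent : ∀ (a : Fin N → B) (k l : Fin N),
      (∑ i, e i l * mulMap c a (E i) k) - (∑ j, e k j * mulMap c (E j) a l) ∈ I := fun a k l => by
    refine Ideal.Quotient.eq.1 ?_
    have h1 := he2 (red a : Alg h0) k l
    simp only [map_sum, map_mul, hm, E, red, comp_single q]
    simp only [q, he]
    have hb : ∀ i, b i = (Pi.single i 1 : Fin N → B ⧸ I) := fun i => Pi.basisFun_apply _ _ i
    convert h1 using 2 <;> rename_i i _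
    · congr 1
      refine Eq.trans ?_ (Pi.basisFun_repr (B ⧸ I) (Fin N) (mulMap c0 (red a) (b i)) k).symm
      rw [hm, hb, ← comp_single q i]
    · congr 1
      refine Eq.trans ?_ (Pi.basisFun_repr (B ⧸ I) (Fin N) (mulMap c0 (b i) (red a)) l).symm
      rw [hm, hb, ← comp_single q i]
  -- the associator
  let f : (Fin N → B) → (Fin N → B) → (Fin N → B) → (Fin N → B) := fun x y z =>
    mulMap c (mulMap c x y) z - mulMap c x (mulMap c y z)
  have hfI : ∀ x y z l, f x y z l ∈ I := fun x y z => by
    refine hmem _ _ ?_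
    rw [hred, hred, hred, hred]
    exact h0.assoc' _ _ _
  have hf3 : ∀ x y F, (∀ l, F l ∈ I) → f x y F = 0 := fun x y F hF =>
    eq_zero_of_mem_of_mem I hI (mulMap c (mulMap c x y) - mulMap c x ∘ₗ mulMap c y) (hfI x y) F hF
  have hf2 : ∀ x F z, (∀ l, F l ∈ I) → f x F z = 0 := fun x F z hF =>
    eq_zero_of_mem_of_mem I hI ((mulMap c).flip z ∘ₗ mulMap c x - mulMap c x ∘ₗ (mulMap c).flip z)
      (fun y => hfI x y z) F hF
  have hTe : ∀ a b c' d, mulMap c a (f b c' d) + mulMap c (f a b c') d =
      f (mulMap c a b) c' d - f a (mulMap c b c') d + f a b (mulMap c c' d) := fun a b c' d => by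
    simp only [f, map_sub, LinearMap.sub_apply]
    abel
  have hfl : ∀ y w z, f y w z = ∑ k, y k • f (E k) w z := fun y w z => by
    let L : (Fin N → B) →ₗ[B] (Fin N → B) :=
      (mulMap c).flip z ∘ₗ (mulMap c).flip w - (mulMap c).flip (mulMap c w z)
    show L y = ∑ k, y k • L (E k)
    conv_lhs => rw [← (Pi.basisFun B (Fin N)).sum_repr y]
    simp [map_sum, E, Pi.basisFun_apply]
  -- the homotopy
  let g : (Fin N → B) →ₗ[B] (Fin N → B) →ₗ[B] (Fin N → B) :=
    ∑ i, ∑ j, e i j • ((((mulMap c).comp (mulMap c (E j))).compr₂ (mulMap c (E i))) -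
      ((mulMap c).compr₂ (mulMap c (E i) ∘ₗ mulMap c (E j))))
  have hg : ∀ x y, g x y = ∑ i, ∑ j, e i j • mulMap c (E i) (f (E j) x y) := fun x y => by
    simp [g, f, LinearMap.sum_apply]
  have hgI : ∀ x y l, g x y l ∈ I := fun x y l => by
    rw [hg]
    simp only [Finset.sum_apply, Pi.smul_apply, smul_eq_mul]
    exact sum_mem fun i _ => sum_mem fun j _ => I.mul_mem_left _ (mulMap_mem I c _ _ (Or.inr (hfI _ _ _)) l)
  have hδ : ∀ x y z, f x y z = mulMap c x (g y z) - g (mulMap c x y) z + g x (mulMap c y z) -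
      mulMap c (g x y) z := fun x y z => by
    have hF := hfI x y z
    have t1 : ∑ i, ∑ j, e i j • mulMap c (E i) (mulMap c (E j) (f x y z)) = f x y z := by
      have h1 : ∀ i j, mulMap c (E i) (mulMap c (E j) (f x y z)) = mulMap c (mulMap c (E i) (E j)) (f x y z) :=
        fun i j => (sub_eq_zero.1 (hf3 (E i) (E j) _ hF)).symm
      have h3 : ∑ i, ∑ j, e i j • mulMap c (E i) (mulMap c (E j) (f x y z)) =
          mulMap c (∑ i, ∑ j, e i j • mulMap c (E i) (E j)) (f x y z) := by
        simp only [h1, map_sum, map_smul, LinearMap.sum_apply, LinearMap.smul_apply]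
      rw [h3]
      refine sub_eq_zero.1 (eq_zero_of_mem_of_mem I hI (mulMap c _ - LinearMap.id) (fun w => hmem _ _ ?_) _ hF)
      rw [hred, show red (∑ i, ∑ j, e i j • mulMap c (E i) (E j)) = red u₀ from
        funext fun l => Ideal.Quotient.eq.2 (hone l)]
      exact h0.one_mul' _
    have t2 : ∑ i, ∑ j, e i j • mulMap c (E i) (mulMap c (f (E j) x y) z) = mulMap c (g x y) z := by
      have h1 : ∀ i j, mulMap c (E i) (mulMap c (f (E j) x y) z) = mulMap c (mulMap c (E i) (f (E j) x y)) z :=
        fun i j => (sub_eq_zero.1 (hf2 (E i) _ z (hfI _ _ _))).symm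
      simp only [h1, hg, map_sum, map_smul, LinearMap.sum_apply, LinearMap.smul_apply]
    have t3 : ∑ i, ∑ j, e i j • mulMap c (E i) (f (mulMap c (E j) x) y z) = mulMap c x (g y z) := by
      have hG : ∀ i k l, mulMap c (E i) (f (E k) y z) l ∈ I := fun i k l => mulMap_mem I c _ _ (Or.inr (hfI _ _ _)) l
      calc ∑ i, ∑ j, e i j • mulMap c (E i) (f (mulMap c (E j) x) y z)
          = ∑ i, ∑ k, (∑ j, e i j * mulMap c (E j) x k) • mulMap c (E i) (f (E k) y z) := by
            refine sum_congr rfl fun i _ => ?_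
            simp only [Finset.sum_smul]
            rw [sum_comm]
            refine sum_congr rfl fun j _ => ?_
            rw [hfl (mulMap c (E j) x), map_sum, Finset.smul_sum]
            simp only [map_smul, smul_smul]
        _ = ∑ i, ∑ k, (∑ p, e p k * mulMap c x (E p) i) • mulMap c (E i) (f (E k) y z) := by
            refine sum_congr rfl fun i _ => sum_congr rfl fun k _ => ?_
            ext l
            simp only [Pi.smul_apply, smul_eq_mul]
            rw [← sub_eq_zero, ← sub_mul]
            refine hInil _ ?_ _ (hG i k l)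
            rw [← neg_sub]
            exact I.neg_mem (hcent x i k)
        _ = ∑ p, ∑ k, e p k • mulMap c (mulMap c x (E p)) (f (E k) y z) := by
            have h1 : ∀ p k, mulMap c (mulMap c x (E p)) (f (E k) y z) =
                ∑ i, mulMap c x (E p) i • mulMap c (E i) (f (E k) y z) := fun p k => by
              conv_lhs => rw [← (Pi.basisFun B (Fin N)).sum_repr (mulMap c x (E p))]
              simp [map_sum, LinearMap.sum_apply, E, Pi.basisFun_apply]
            simp only [h1, Finset.smul_sum, smul_smul, Finset.sum_smul]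
            rw [sum_comm]
            conv_lhs => enter [2, k]; rw [sum_comm]
            rw [sum_comm]
        _ = mulMap c x (g y z) := by
            simp only [hg, map_sum, map_smul]
            refine sum_congr rfl fun p _ => sum_congr rfl fun k _ => ?_
            rw [sub_eq_zero.1 (hf3 x (E p) _ (hfI _ _ _))]
    have h4 : ∑ i, ∑ j, e i j • mulMap c (E i) (mulMap c (E j) (f x y z) + mulMap c (f (E j) x y) z) =
        ∑ i, ∑ j, e i j • mulMap c (E i)
          (f (mulMap c (E j) x) y z - f (E j) (mulMap c x y) z + f (E j) x (mulMap c y z)) := by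
      simp only [hTe]
    simp only [map_add, map_sub, smul_add, smul_sub, sum_add_distrib, sum_sub_distrib, t1, t2, t3, ← hg] at h4
    rw [← h4]
    abel
  -- the corrected multiplication
  let m' := mulMap c + g
  let c' : Fin N → Fin N → Fin N → B := fun i j => m' (E i) (E j)
  have hm' : mulMap c' = m' := (Pi.basisFun B (Fin N)).ext fun i => (Pi.basisFun B (Fin N)).ext fun j => by
    simp [Pi.basisFun_apply, mulMap_single, c', E]
  have hgz : ∀ x y, (∀ l, x l ∈ I) ∨ (∀ l, y l ∈ I) → g x y = 0 := fun x y h => by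
    rcases h with h | h
    · exact eq_zero_of_mem_of_mem I hI (g.flip y) (fun x => hgI x y) x h
    · exact eq_zero_of_mem_of_mem I hI (g x) (hgI x) y h
  have hassoc : ∀ x y z, mulMap c' (mulMap c' x y) z = mulMap c' x (mulMap c' y z) := fun x y z => by
    simp only [hm', m', LinearMap.add_apply, map_add, hgz _ _ (Or.inl (hgI x y)), hgz _ _ (Or.inr (hgI y z)),
      LinearMap.zero_apply, add_zero]
    have := hδ x y z
    simp only [f] at this
    linear_combination (norm := abel) this
  have hred' : ∀ x y, red (mulMap c' x y) = mulMap c0 (red x) (red y) := fun x y => by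
    rw [hm', ← hred]
    refine funext fun l => Ideal.Quotient.eq.2 ?_
    simpa [m'] using hgI x y l
  -- the unit
  have hbij : ∀ L : (Fin N → B) →ₗ[B] (Fin N → B), (∀ x, red (L x) = red x) → Function.Surjective L := fun L hL y => by
    refine ⟨y - (L y - y), ?_⟩
    have h1 := eq_zero_of_mem_of_mem I hI (L - LinearMap.id) (fun x => hmem _ _ (hL x)) (L y - y) (hmem _ _ (hL y))
    rw [LinearMap.sub_apply, LinearMap.id_apply, sub_eq_zero] at h1
    rw [map_sub, h1]
    abel
  have hL := hbij (mulMap c' u₀) fun x => by rw [hred']; exact h0.one_mul' _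
  have hR := hbij ((mulMap c').flip u₀) fun x => by rw [LinearMap.flip_apply, hred']; exact h0.mul_one' _
  obtain ⟨u, hu⟩ := hL u₀
  obtain ⟨u', hu'⟩ := hR u₀
  rw [LinearMap.flip_apply] at hu'
  have hr : ∀ x, mulMap c' x u = x := fun x => by
    obtain ⟨w, rfl⟩ := hR x
    rw [LinearMap.flip_apply, hassoc, hu]
  have hl : ∀ x, mulMap c' u' x = x := fun x => by
    obtain ⟨w, rfl⟩ := hL x
    rw [← hassoc, hu']
  have huu : u' = u := (hr u').symm.trans (hl u)
  subst huu
  refine ⟨c', u', IsStr.mk' hassoc hl hr, ?_, fun i j => ?_, ?_⟩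
  · have h1 : q (lrMatrix c').det = (lrMatrix c0).det := by
      rw [map_lrMatrix]
      congr 2
      funext i j l
      refine (Ideal.Quotient.eq.2 ?_)
      simpa [c', m', E, mulMap_single] using hgI (E i) (E j) l
    obtain ⟨v, hv⟩ := (h1 ▸ hd : IsUnit (q (lrMatrix c').det)).exists_right_inv
    obtain ⟨v, rfl⟩ := Ideal.Quotient.mk_surjective v
    rw [← map_mul, ← map_one q, Ideal.Quotient.eq] at hv
    refine isUnit_of_mul_isUnit_left (y := v) ?_
    have : IsNilpotent ((lrMatrix c').det * v - 1) := ⟨2, by rw [sq]; exact hInil _ hv _ hv⟩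
    simpa using this.isUnit_add_one
  · refine hmem _ _ (funext fun l => Ideal.Quotient.eq.2 ?_)
    simpa [c', m', E, mulMap_single] using hgI (E i) (E j) l
  · refine hmem _ _ ?_
    have h1 := congrArg red hu
    rw [hred', h0.one_mul'] at h1
    exact h1

end Groth.Agent.AzuStr2
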