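import Groth.Agent.AzuStr2.Deform
import Groth.Agent.Hensel20.SmoothLift
import Mathlib

/-!
# The smooth algebra parametrising Azumaya structures, and lifting over henselian rings
-/

set_option autoImplicit false
set_option linter.style.haveILetI false

universe u

open Finset TensorProduct MvPolynomial

namespace Groth.Agent.AzuStr2

variable (N : ℕ)

/-- The variables. -/
abbrev Var : Type := (Fin N × Fin N × Fin N) ⊕ Fin N

variable (R : Type u) [CommRing R]

/-- Generic constants. -/
noncomputable def genC : Fin N → Fin N → Fin N → MvPolynomial (Var N) R := fun i j l => X (Sum.inl (i, j, l))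

/-- Generic unit. -/
noncomputable def genU : Fin N → MvPolynomial (Var N) R := fun l => X (Sum.inr l)

/-- The equations. -/
noncomputable def rels : (Fin N × Fin N × Fin N × Fin N) ⊕ ((Fin N × Fin N) ⊕ (Fin N × Fin N)) → MvPolynomial (Var N) R
  | .inl (i, j, k, l) => mulMap (genC N R) (genC N R i j) (Pi.single k 1) l -
      mulMap (genC N R) (Pi.single i 1) (genC N R j k) l
  | .inr (.inl (i, l)) => mulMap (genC N R) (genU N R) (Pi.single i 1) l - (Pi.single i 1 : Fin N → _) l
  | .inr (.inr (i, l)) => mulMap (genC N R) (Pi.single i 1) (genU N R) l - (Pi.single i 1 : Fin N → _) l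

/-- The affine scheme of unital associative structures. -/
abbrev StrRing : Type u := MvPolynomial (Var N) R ⧸ Ideal.span (Set.range (rels N R))

/-- The determinant. -/
noncomputable def detEl : StrRing N R := Ideal.Quotient.mk _ (lrMatrix (genC N R)).det

/-- The open subscheme of Azumaya structures. -/
abbrev AzRing : Type u := Localization.Away (detEl N R)

variable {N R}

/-- Generic constants in `AzRing`. -/
noncomputable def ptC {C : Type u} [CommRing C] [Algebra R C] (φ : AzRing N R →ₐ[R] C) : Fin N → Fin N → Fin N → C :=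
  fun i j l => φ (algebraMap (StrRing N R) (AzRing N R) (Ideal.Quotient.mk _ (genC N R i j l)))

/-- Generic unit in `AzRing`. -/
noncomputable def ptU {C : Type u} [CommRing C] [Algebra R C] (φ : AzRing N R →ₐ[R] C) : Fin N → C :=
  fun l => φ (algebraMap (StrRing N R) (AzRing N R) (Ideal.Quotient.mk _ (genU N R l)))

theorem isStr_pt {C : Type u} [CommRing C] [Algebra R C] (φ : AzRing N R →ₐ[R] C) :
    IsStr (ptC φ) (ptU φ) ∧ IsUnit (lrMatrix (ptC φ)).det := by
  let θ : MvPolynomial (Var N) R →+* C :=
    (φ.toRingHom.comp (algebraMap (StrRing N R) (AzRing N R))).comp (Ideal.Quotient.mk _)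
  have hc : ptC φ = fun i j l => θ (genC N R i j l) := rfl
  have h0 : ∀ t, θ (rels N R t) = 0 := fun t => by
    show φ (algebraMap _ _ (Ideal.Quotient.mk _ _)) = 0
    rw [Ideal.Quotient.eq_zero_iff_mem.2 (show rels N R t ∈ Ideal.span (Set.range (rels N R)) from Ideal.subset_span ⟨t, rfl⟩),
      map_zero, map_zero]
  refine ⟨⟨fun i j k => funext fun l => ?_, fun i => funext fun l => ?_, fun i => funext fun l => ?_⟩, ?_⟩
  · have := h0 (.inl (i, j, k, l))
    simp only [rels, map_sub, sub_eq_zero, congrFun (map_mulMap θ _ _ _) l, comp_single θ] at this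
    exact this
  · have := h0 (.inr (.inl (i, l)))
    simp only [rels, map_sub, sub_eq_zero, congrFun (map_mulMap θ _ _ _) l, comp_single θ,
      congrFun (comp_single θ i) l] at this
    exact this
  · have := h0 (.inr (.inr (i, l)))
    simp only [rels, map_sub, sub_eq_zero, congrFun (map_mulMap θ _ _ _) l, comp_single θ,
      congrFun (comp_single θ i) l] at this
    exact this
  · rw [hc, ← map_lrMatrix θ]
    show IsUnit (φ (algebraMap _ _ (detEl N R)))
    exact (IsLocalization.Away.algebraMap_isUnit (detEl N R)).map φ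

theorem exists_pt {C : Type u} [CommRing C] [Algebra R C] {c : Fin N → Fin N → Fin N → C} {u : Fin N → C}
    (h : IsStr c u) (hd : IsUnit (lrMatrix c).det) :
    ∃ φ : AzRing N R →ₐ[R] C, ptC φ = c ∧ ptU φ = u := by
  let v : Var N → C := Sum.elim (fun t => c t.1 t.2.1 t.2.2) u
  let θ : MvPolynomial (Var N) R →ₐ[R] C := MvPolynomial.aeval v
  have hC : (fun i j l => θ (genC N R i j l)) = c := by funext i j l; simp [θ, v, genC]
  have hC' : ∀ i j, (fun l => θ (genC N R i j l)) = c i j := fun i j => congrFun (congrFun hC i) j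
  have hU : (fun l => θ (genU N R l)) = u := by funext l; simp [θ, v, genU]
  have hmap : ∀ x y l, θ (mulMap (genC N R) x y l) = mulMap c (fun i => θ (x i)) (fun i => θ (y i)) l := fun x y l =>
    (congrFun (map_mulMap θ.toRingHom _ x y) l).trans (congrArg (fun c => mulMap c _ _ l) hC)
  have hs : ∀ i : Fin N, (fun l => θ ((Pi.single i 1 : Fin N → MvPolynomial (Var N) R) l)) = Pi.single i 1 :=
    comp_single θ.toRingHom
  have h0 : ∀ a ∈ Ideal.span (Set.range (rels N R)), θ a = 0 := fun a ha => by
    refine RingHom.mem_ker.mp (Ideal.span_le.mpr ?_ ha)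
    rintro _ ⟨t, rfl⟩
    show θ (rels N R t) = 0
    rcases t with ⟨i, j, k, l⟩ | ⟨i, l⟩ | ⟨i, l⟩
    · simp only [rels, map_sub, hmap, hs, hC', h.assoc, sub_self]
    · simp only [rels, map_sub, hmap, hs, hU, h.one_mul, congrFun (hs i) l, sub_self]
    · simp only [rels, map_sub, hmap, hs, hU, h.mul_one, congrFun (hs i) l, sub_self]
  let θ' : StrRing N R →ₐ[R] C := Ideal.Quotient.liftₐ _ θ h0
  refine ⟨IsLocalization.liftAlgHom (M := Submonoid.powers (detEl N R)) (f := θ') ?_, ?_, ?_⟩
  · rintro ⟨_, n, rfl⟩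
    rw [map_pow]
    refine IsUnit.pow n ?_
    show IsUnit (θ.toRingHom (lrMatrix (genC N R)).det)
    rw [map_lrMatrix]
    exact hC.symm ▸ hd
  · funext i j l
    refine (IsLocalization.lift_eq _ _).trans ?_
    exact congrFun (hC' i j) l
  · funext l
    refine (IsLocalization.lift_eq _ _).trans ?_
    exact congrFun hU l

theorem pt_ext {C : Type u} [CommRing C] [Algebra R C] {φ ψ : AzRing N R →ₐ[R] C}
    (hc : ptC φ = ptC ψ) (hu : ptU φ = ptU ψ) : φ = ψ := by
  refine IsLocalization.algHom_ext (Submonoid.powers (detEl N R)) (Ideal.Quotient.algHom_ext _ ?_)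
  refine MvPolynomial.algHom_ext fun t => ?_
  rcases t with ⟨i, j, l⟩ | l
  · exact congrFun (congrFun (congrFun hc i) j) l
  · exact congrFun hu l

theorem smooth_azRing (hN : 0 < N) : Algebra.Smooth R (AzRing N R) := by
  have h1 : Algebra.FinitePresentation R (StrRing N R) :=
    Algebra.FinitePresentation.quotient (Submodule.fg_span (Set.finite_range _))
  have h2 : Algebra.FinitePresentation (StrRing N R) (AzRing N R) :=
    IsLocalization.Away.finitePresentation (detEl N R)
  have h3 : Algebra.FinitePresentation R (AzRing N R) := Algebra.FinitePresentation.trans R (StrRing N R) _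
  have h4 : Algebra.FormallySmooth R (AzRing N R) := by
    refine Algebra.FormallySmooth.iff_comp_surjective.2 fun B _ _ I hI φ => ?_
    rcases subsingleton_or_nontrivial B with hB | hB
    · have h5 : IsStr (fun _ _ _ => (0 : B)) (fun _ : Fin N => (0 : B)) :=
        ⟨fun _ _ _ => Subsingleton.elim _ _, fun _ => Subsingleton.elim _ _, fun _ => Subsingleton.elim _ _⟩
      obtain ⟨ψ, -, -⟩ := exists_pt (R := R) h5 ⟨⟨_, 0, Subsingleton.elim _ _, Subsingleton.elim _ _⟩, rfl⟩
      haveI : Subsingleton (B ⧸ I) := Ideal.Quotient.subsingleton_iff.2 (Subsingleton.elim _ _)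
      exact ⟨ψ, AlgHom.ext fun _ => Subsingleton.elim _ _⟩
    choose c hc using fun i j l => Ideal.Quotient.mk_surjective (ptC φ i j l)
    choose u₀ hu₀ using fun l => Ideal.Quotient.mk_surjective (ptU φ l)
    obtain ⟨hs, hd⟩ := isStr_pt φ
    have hceq : (fun i j l => Ideal.Quotient.mk I (c i j l)) = ptC φ := funext fun i => funext fun j => funext fun l => hc i j l
    have hueq : (fun l => Ideal.Quotient.mk I (u₀ l)) = ptU φ := funext hu₀
    obtain ⟨c', u, hs', hd', hcc, huu⟩ := exists_deform I hI hN c u₀ (hceq.symm ▸ hueq.symm ▸ hs) (hceq.symm ▸ hd)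
    obtain ⟨ψ, hψc, hψu⟩ := exists_pt (R := R) hs' hd'
    refine ⟨ψ, pt_ext ?_ ?_⟩
    · funext i j l
      show Ideal.Quotient.mk I (ptC ψ i j l) = _
      rw [hψc, ← hc, Ideal.Quotient.eq]
      exact hcc i j l
    · funext l
      show Ideal.Quotient.mk I (ptU ψ l) = _
      rw [hψu, ← hu₀, Ideal.Quotient.eq]
      exact huu l
  exact { }

theorem exists_azumaya_lift (R : Type u) [CommRing R] [HenselianLocalRing R] (A₀ : Type u) [Ring A₀]
    [Algebra (IsLocalRing.ResidueField R) A₀] [IsAzumaya (IsLocalRing.ResidueField R) A₀] :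
    ∃ (A : Type u) (_ : Ring A) (_ : Algebra R A), IsAzumaya R A ∧
      Nonempty ((IsLocalRing.ResidueField R ⊗[R] A) ≃ₐ[IsLocalRing.ResidueField R] A₀) := by
  classical
  let κ := IsLocalRing.ResidueField R
  haveI : Nontrivial A₀ := Azu26.nontrivial_of_field κ A₀
  let N := Module.finrank κ A₀
  have hN : 0 < N := Module.finrank_pos
  let b := Module.finBasis κ A₀
  obtain ⟨φ, hφc, hφu⟩ := exists_pt (R := R) (isStr_consts b) (isUnit_det_of_isAzumaya b)
  haveI := smooth_azRing (R := R) hN
  obtain ⟨τ, hτ⟩ := Hensel20.exists_lift_of_smooth (I := IsLocalRing.maximalIdeal R) (AzRing N R) φ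
  obtain ⟨hs, hd⟩ := isStr_pt τ
  let bA := Alg.basis hs
  have hcb : consts bA = ptC τ := funext fun i => funext fun j => funext fun l => Alg.repr_mul hs i j l
  refine ⟨Alg hs, inferInstance, inferInstance, isAzumaya_of_isUnit_det bA hN (by rw [hcb]; exact hd), ?_⟩
  have hc : ∀ i j l, algebraMap R κ (ptC τ i j l) = b.repr (b i * b j) l := fun i j l => by
    rw [← show ptC φ i j l = b.repr (b i * b j) l from congrFun (congrFun (congrFun hφc i) j) l]
    exact DFunLike.congr_fun hτ _
  have hu : ∀ l, algebraMap R κ (ptU τ l) = b.repr 1 l := fun l => by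
    rw [← show ptU φ l = b.repr 1 l from congrFun hφu l]
    exact DFunLike.congr_fun hτ _
  let bk := bA.baseChange κ
  let e : (κ ⊗[R] Alg hs) ≃ₗ[κ] A₀ := bk.equiv b (Equiv.refl _)
  have hek : ∀ a : Alg hs, e ((1 : κ) ⊗ₜ[R] a) = ∑ l, algebraMap R κ (bA.repr a l) • b l := fun a => by
    conv_lhs => rw [← bA.sum_repr a]
    simp only [tmul_sum, map_sum]
    refine sum_congr rfl fun l _ => ?_
    rw [← smul_tmul, Algebra.smul_def, mul_one, show (algebraMap R κ (bA.repr a l)) ⊗ₜ[R] bA l =
      algebraMap R κ (bA.repr a l) • bk l by rw [Module.Basis.baseChange_apply, smul_tmul', smul_eq_mul, mul_one], map_smul]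
    simp [e]
  have h1 : e 1 = 1 := by
    rw [Algebra.TensorProduct.one_def, hek]
    simp only [bA, Alg.repr_one, hu]
    exact b.sum_repr 1
  have hmul : ∀ x y, e (x * y) = e x * e y := by
    have : (LinearMap.mul κ (κ ⊗[R] Alg hs)).compr₂ e.toLinearMap =
        (LinearMap.mul κ A₀).compl₁₂ e.toLinearMap e.toLinearMap := by
      refine bk.ext fun i => bk.ext fun j => ?_
      simp only [LinearMap.compr₂_apply, LinearMap.compl₁₂_apply, LinearMap.mul_apply', LinearEquiv.coe_coe]
      rw [show e (bk i) = b i by simp [e], show e (bk j) = b j by simp [e], Module.Basis.baseChange_apply,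
        Module.Basis.baseChange_apply, Algebra.TensorProduct.tmul_mul_tmul, mul_one, hek]
      simp only [bA, Alg.repr_mul, hc]
      exact b.sum_repr _
    exact fun x y => LinearMap.congr_fun (LinearMap.congr_fun this x) y
  exact ⟨AlgEquiv.ofLinearEquiv e h1 hmul⟩

end Groth.Agent.AzuStr2
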